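import Cfsg.Agent.Lib.Helper35.ONOrd.U1.Check
import Cfsg.Agent.Lib.Helper35.ONOrd.U2.Check
import Cfsg.Agent.Lib.Helper35.ONOrd.U3.Check
import Cfsg.Agent.Lib.Helper35.ONOrd.U4.Check
import Cfsg.Agent.Lib.Helper35.ONOrd.U5.Check
import Cfsg.Agent.Lib.Helper35.ONOrd.U6.Check
import Cfsg.Agent.Lib.Helper35.ONOrd.Y0.Check
import Cfsg.Agent.Lib.Helper35.ONOrd.X0.Fin
import Cfsg.Agent.Lib.Helper35.ON122760.Check

namespace Cfsg.Agent.Lib.Helper35.ONOrd

open Cfsg.Agent.Lib.Helper35 Cfsg.Spor

set_option maxRecDepth 100000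

noncomputable def I : PresIface ON := coxIface ON.edges ON.extra PresON.cc PresON.extraL PresON.R PresON.allGens PresON.hall PresON.hOK PresON.hextra
theorem up7 : Finite (wsub I.val ([] : List (List Nat))) ∧ Nat.card (wsub I.val ([] : List (List Nat))) ≤ 1 := upper_nil I.val
theorem up6 : Finite (wsub I.val [[7]]) ∧ Nat.card (wsub I.val [[7]]) ≤ 2 :=
  upper_cons 2 1 2 up7 (fun hf => card_upper_step I.val I.inv I.hinv [[7]] ([] : List (List Nat)) U6.invL U6.R U6.S 2
    (by decide +kernel) (by decide +kernel)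
    (fun b hb => I.hR _ ((by decide +kernel : ∀ b ∈ U6.R, expand [[7]] b ∈ PresON.R) b hb))
    (by decide +kernel) U6.certData hf) (by decide +kernel)
theorem up5 : Finite (wsub I.val [[6], [7]]) ∧ Nat.card (wsub I.val [[6], [7]]) ≤ 6 :=
  upper_cons 3 2 6 up6 (fun hf => card_upper_step I.val I.inv I.hinv [[6], [7]] [[7]] U5.invL U5.R U5.S 3
    (by decide +kernel) (by decide +kernel)
    (fun b hb => I.hR _ ((by decide +kernel : ∀ b ∈ U5.R, expand [[6], [7]] b ∈ PresON.R) b hb))
    (by decide +kernel) U5.certData hf) (by decide +kernel)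
theorem up4 : Finite (wsub I.val [[5], [6], [7]]) ∧ Nat.card (wsub I.val [[5], [6], [7]]) ≤ 24 :=
  upper_cons 4 6 24 up5 (fun hf => card_upper_step I.val I.inv I.hinv [[5], [6], [7]] [[6], [7]] U4.invL U4.R U4.S 4
    (by decide +kernel) (by decide +kernel)
    (fun b hb => I.hR _ ((by decide +kernel : ∀ b ∈ U4.R, expand [[5], [6], [7]] b ∈ PresON.R) b hb))
    (by decide +kernel) U4.certData hf) (by decide +kernel)
theorem up3 : Finite (wsub I.val [[3], [5], [6], [7]]) ∧ Nat.card (wsub I.val [[3], [5], [6], [7]]) ≤ 48 :=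
  upper_cons 2 24 48 up4 (fun hf => card_upper_step I.val I.inv I.hinv [[3], [5], [6], [7]] [[5], [6], [7]] U3.invL U3.R U3.S 2
    (by decide +kernel) (by decide +kernel)
    (fun b hb => I.hR _ ((by decide +kernel : ∀ b ∈ U3.R, expand [[3], [5], [6], [7]] b ∈ PresON.R) b hb))
    (by decide +kernel) U3.certData hf) (by decide +kernel)
theorem up2 : Finite (wsub I.val [[2], [3], [5], [6], [7]]) ∧ Nat.card (wsub I.val [[2], [3], [5], [6], [7]]) ≤ 144 :=
  upper_cons 3 48 144 up3 (fun hf => card_upper_step I.val I.inv I.hinv [[2], [3], [5], [6], [7]] [[3], [5], [6], [7]] U2.invL U2.R U2.S 3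
    (by decide +kernel) (by decide +kernel)
    (fun b hb => I.hR _ ((by decide +kernel : ∀ b ∈ U2.R, expand [[2], [3], [5], [6], [7]] b ∈ PresON.R) b hb))
    (by decide +kernel) U2.certData hf) (by decide +kernel)
theorem up1 : Finite (wsub I.val [[2], [3], [4], [5], [6], [7]]) ∧ Nat.card (wsub I.val [[2], [3], [4], [5], [6], [7]]) ≤ 3753792 :=
  upper_cons 26068 144 3753792 up2 (fun hf => card_upper_step I.val I.inv I.hinv [[2], [3], [4], [5], [6], [7]] [[2], [3], [5], [6], [7]] U1.invL U1.R U1.S 26068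
    (by decide +kernel) (by decide +kernel)
    (fun b hb => I.hR _ ((by decide +kernel : ∀ b ∈ U1.R, expand [[2], [3], [4], [5], [6], [7]] b ∈ PresON.R) b hb))
    (by decide +kernel) U1.certData hf) (by decide +kernel)
theorem up0 : Finite (wsub I.val [[0], [1], [2], [3], [4], [5], [6], [7]]) ∧ Nat.card (wsub I.val [[0], [1], [2], [3], [4], [5], [6], [7]]) ≤ 460815505920 :=
  upper_cons 122760 3753792 460815505920 up1 (fun hf => card_upper_step I.val I.inv I.hinv [[0], [1], [2], [3], [4], [5], [6], [7]] [[2], [3], [4], [5], [6], [7]] PresON.cc.invL PresON.R ON122760.S 122760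
    (by decide +kernel) (by decide +kernel)
    (fun b hb => I.hR _ ((by decide +kernel : ∀ b ∈ PresON.R, expand [[0], [1], [2], [3], [4], [5], [6], [7]] b ∈ PresON.R) b hb))
    (by decide +kernel) ON122760.certData hf) (by decide +kernel)
noncomputable abbrev pv2 := ON122760.permData.pv
theorem lo3 : 1 ≤ Nat.card (wsub pv2 ([] : List (List Nat))) := lower_nil pv2
theorem lo2 : 72 ≤ Nat.card (wsub pv2 [[5], [6], [7], [3, 2]]) :=
  lower_cons 72 1 72 lo3 (card_lower_step pv2 [[5], [6], [7], [3, 2]] ([] : List (List Nat)) (by decide +kernel) 122759 (MonoidHom.id _) ON122760.pt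
    (fun s hs i => walk_of_hom pv2 ON122760.permData (MonoidHom.id _) (fun _ => rfl) s ((by decide +kernel : ∀ s ∈ ([[5], [6], [7], [3, 2]] : List (List Nat)), ∀ c ∈ s, c < PresON.cc.C) s hs) i)
    17611 72 (by decide +kernel) X0.reach2 X0.fix2) (by decide +kernel)
theorem lo1 : 3753792 ≤ Nat.card (wsub pv2 [[2], [3], [4], [5], [6], [7]]) := by
  have h := lower_cons 52136 72 3753792 lo2 (card_lower_step pv2 [[2], [3], [4], [5], [6], [7], [5], [6], [7], [3, 2]] [[5], [6], [7], [3, 2]] (by decide +kernel) 122759 (MonoidHom.id _) ON122760.pt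
    (fun s hs i => walk_of_hom pv2 ON122760.permData (MonoidHom.id _) (fun _ => rfl) s ((by decide +kernel : ∀ s ∈ ([[2], [3], [4], [5], [6], [7], [5], [6], [7], [3, 2]] : List (List Nat)), ∀ c ∈ s, c < PresON.cc.C) s hs) i)
    6 52136 (by decide +kernel) X0.reach1 X0.fix1) (by decide +kernel)
  have e : wsub pv2 [[2], [3], [4], [5], [6], [7], [5], [6], [7], [3, 2]] = wsub pv2 [[2], [3], [4], [5], [6], [7]] := wsub_append_of_letters pv2 [[2], [3], [4], [5], [6], [7]] [[5], [6], [7], [3, 2]] (by decide +kernel)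
  rwa [e] at h
theorem lo0 : 460815505920 ≤ Nat.card (wsub pv2 [[0], [1], [2], [3], [4], [5], [6], [7]]) :=
  lower_cons 122760 3753792 460815505920 lo1 (card_lower_step pv2 [[0], [1], [2], [3], [4], [5], [6], [7]] [[2], [3], [4], [5], [6], [7]] (by decide +kernel) 122759 (MonoidHom.id _) ON122760.pt
    (fun s hs i => walk_of_hom pv2 ON122760.permData (MonoidHom.id _) (fun _ => rfl) s ((by decide +kernel : ∀ s ∈ ([[0], [1], [2], [3], [4], [5], [6], [7]] : List (List Nat)), ∀ c ∈ s, c < PresON.cc.C) s hs) i)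
    0 122760 (by decide +kernel) X0.reach0 X0.fix0) (by decide +kernel)
def cnt0 : Nat → Nat := fun k => ([1, 58653, 52136, 5586, 6384] : List Nat).getD k 0
noncomputable def prim0 : PrimData ON122760.permData 460815505920 where
  O := ON122760.orbData
  r := 5
  cnt := cnt0
  hcnt := by
    intro k hk
    interval_cases k
    exacts [ON122760.ocnt0, ON122760.ocnt1, ON122760.ocnt2, ON122760.ocnt3, ON122760.ocnt4]
  hsum := by decide +kernel
  hnum := by decide +kernel
  p := 5
  hp := by norm_num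
  yw := Y0.yw
  hyC := by decide +kernel
  hnd := by decide +kernel
  col := Y0.certData
theorem main : IsSimpleGroup ON ∧ Nat.card ON = 460815505920 :=
  simple_of_one I ON122760.permData 460815505920 (by decide +kernel) up0 lo0 prim0 X0.yfix0

end Cfsg.Agent.Lib.Helper35.ONOrd
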